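import Groth.Agent.BCLib.SecBC
import Groth.Agent.PullbackMod.Hom
import Groth.Agent.FlatLocus.ModInjFlat
import Groth.Agent.QCohLib.Coherent
import Groth.Agent.SepLib.AffineBase

/-!
# Morphisms of flat modules and their base changes to fibres
-/

set_option autoImplicit false
set_option backward.isDefEq.respectTransparency false
set_option linter.style.haveILetI false

universe u

open CategoryTheory CategoryTheory.Limits AlgebraicGeometry TopologicalSpace Opposite
open Groth.Agent.CohBase Groth.Agent.ProjCoh Groth.Agent.FormalLib Groth.Agent.PullbackMod Groth.Agent.BCLib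
open scoped TensorProduct nonZeroDivisors

noncomputable section

namespace Groth.Agent.HomDvrLib

variable {X X' : Scheme.{u}}

/-- A morphism injective on the sections of every affine open is a monomorphism. -/
theorem mono_of_affine {M N : X.Modules} (φ : M ⟶ N)
    (h : ∀ W : X.Opens, IsAffineOpen W → Function.Injective (φ.app W)) : Mono φ := by
  refine (mono_iff_stalk φ).2 fun x => (injective_iff_map_eq_zero _).2 fun z hz => ?_
  obtain ⟨U, hxU, m, rfl⟩ := TopCat.Presheaf.exists_germ_eq M.presheaf z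
  rw [stalkLin_germ] at hz
  obtain ⟨V, hxV, iVU, _, hV⟩ := N.presheaf.germ_eq x hxU hxU (φ.app U m) 0 (hz.trans (map_zero _).symm)
  obtain ⟨_, ⟨W, hW, rfl⟩, hxW, hWV⟩ := X.isBasis_affineOpens.exists_subset_of_mem_open
    (u := (V : Set X)) hxV V.2
  have hWU : W ≤ U := fun y hy => leOfHom iVU (hWV hy)
  have h0 : φ.app W (M.presheaf.map (homOfLE hWU).op m) = 0 := by
    have hnat : φ.app W (M.presheaf.map (homOfLE hWU).op m) =
        N.presheaf.map (homOfLE hWU).op (φ.app U m) :=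
      ConcreteCategory.congr_hom (φ.mapPresheaf.naturality (homOfLE hWU).op) m
    rw [hnat, ← restr_trans N (leOfHom iVU) hWV]
    exact (congrArg (N.presheaf.map (homOfLE hWV).op) (hV.trans (map_zero _))).trans (map_zero _)
  have hm : M.presheaf.map (homOfLE hWU).op m = 0 := h W hW (h0.trans (map_zero _).symm)
  exact (M.presheaf.germ_res_apply (homOfLE hWU) x hxW m).symm.trans
    ((congrArg (M.presheaf.germ W x hxW) hm).trans (map_zero _))

/-- A morphism out of a quasi-coherent module vanishes if it kills generators on an affine cover. -/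
theorem eq_zero_of_generators {M N : X.Modules} [Coh.IsQCoh M] (φ : M ⟶ N) {ι : Type*}
    (W : ι → X.Opens) (hW : ∀ i, IsAffineOpen (W i)) (hcov : ∀ x : X, ∃ i, x ∈ W i)
    (h : ∀ i, ∀ m : Γ(M, W i), φ.app (W i) m = 0) : φ = 0 := by
  refine (eq_zero_iff_stalk φ).2 fun x => LinearMap.ext fun z => ?_
  obtain ⟨i, hxi⟩ := hcov x
  letI := Module.compHom (M.presheaf.stalk x) (X.presheaf.germ (W i) x hxi).hom
  haveI := FlatLocus.isLocalizedModule_germL M (hW i) x hxi
  obtain ⟨⟨m, s⟩, hs⟩ := IsLocalizedModule.surj ((hW i).primeIdealOf ⟨x, hxi⟩).asIdeal.primeCompl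
    (FlatLocus.germL M (W i) x hxi) z
  letI : Algebra Γ(X, W i) (X.presheaf.stalk x) := (X.presheaf.germ (W i) x hxi).hom.toAlgebra
  haveI := (hW i).isLocalization_stalk ⟨x, hxi⟩
  have hu : IsUnit (algebraMap Γ(X, W i) (X.presheaf.stalk x) s.1) := IsLocalization.map_units _ s
  refine hu.smul_left_cancel.1 ?_
  rw [LinearMap.zero_apply, smul_zero, ← map_smul]
  refine (congrArg (stalkLin φ x) (show algebraMap Γ(X, W i) (X.presheaf.stalk x) s.1 • z =
    M.presheaf.germ (W i) x hxi m from hs)).trans ?_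
  rw [stalkLin_germ, h, map_zero]

variable {R R' : CommRingCat.{u}} (f : X ⟶ Spec R) (f' : X' ⟶ Spec R') (g : X' ⟶ X) (φ : R ⟶ R')

/-- Multiplication by a scalar of the base. -/
def sm (M : X.Modules) (a : R) : M ⟶ M := Formal.smulModΓ M (Coh.toGlobal (A := R) f a)

theorem sm_app (M : X.Modules) (a : R) (W : X.Opens) (m : Γ(M, W)) :
    (sm f M a).app W m = (secHom f W).hom a • m := rfl

variable {f f' g φ}

theorem map_sm (w : g ≫ f = f' ≫ Spec.map φ) (M : X.Modules) (a : R) :
    (Scheme.Modules.pullback g).map (sm f M a) = sm f' ((Scheme.Modules.pullback g).obj M) (φ.hom a) := by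
  apply ((Scheme.Modules.pullbackPushforwardAdjunction g).homEquiv _ _).injective
  rw [Adjunction.homEquiv_unit, Adjunction.homEquiv_unit]
  refine Eq.trans ((Scheme.Modules.pullbackPushforwardAdjunction g).unit.naturality (sm f M a)).symm ?_
  refine Scheme.Modules.hom_ext _ _ fun W => AddCommGrpCat.hom_ext (AddMonoidHom.ext fun m => ?_)
  show (show Γ((Scheme.Modules.pullback g).obj M, g ⁻¹ᵁ W) from
      ((Scheme.Modules.pullbackPushforwardAdjunction g).unit.app M).app W ((secHom f W).hom a • m)) =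
    (secHom f' (g ⁻¹ᵁ W)).hom (φ.hom a) • (show Γ((Scheme.Modules.pullback g).obj M, g ⁻¹ᵁ W) from
      ((Scheme.Modules.pullbackPushforwardAdjunction g).unit.app M).app W m)
  have h := pullMap_smul g M (le_rfl : g ⁻¹ᵁ W ≤ g ⁻¹ᵁ W) ((secHom f W).hom a) m
  have hc : g.appLE W (g ⁻¹ᵁ W) le_rfl ((secHom f W).hom a) = (secHom f' (g ⁻¹ᵁ W)).hom (φ.hom a) :=
    congr($(secHom_comm w (le_rfl : g ⁻¹ᵁ W ≤ g ⁻¹ᵁ W)).hom a)
  rw [hc] at h
  exact ((restr_self _ le_rfl _).symm.trans h).trans (congrArg (_ • ·) (restr_self _ le_rfl _))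

theorem injective_smul [IsDomain R] {M : X.Modules} [Coh.IsQCoh M] (hM : FlatMod.IsFlatOver f M)
    {W : X.Opens} (hW : IsAffineOpen W) {a : R} (ha : a ≠ 0) :
    Function.Injective fun m : Γ(M, W) => (secHom f W).hom a • m := by
  letI := Module.compHom Γ(M, W) (secHom f W).hom
  haveI : Module.Flat R Γ(M, W) := SepLib.flat_sections_base f M hM hW
  exact Module.Flat.isSMulRegular_of_nonZeroDivisors (R := R) (M := Γ(M, W))
    (mem_nonZeroDivisors_of_ne_zero ha)

theorem mono_sm [IsDomain R] {M : X.Modules} [Coh.IsQCoh M] (hM : FlatMod.IsFlatOver f M) {a : R}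
    (ha : a ≠ 0) : Mono (sm f M a) :=
  mono_of_affine _ fun _ hW => injective_smul hM hW ha

section Generic

variable [IsDomain R] (hc : IsPullback g f' f (Spec.map φ)) (hφ : @IsLocalization R _ R⁰ R' _ φ.hom.toAlgebra)

omit [IsDomain R] in
include hc hφ in
theorem isLocalized_pullMap {F : X.Modules} [Coh.IsQCoh F] {W : X.Opens} (hW : IsAffineOpen W) :
    letI := Module.compHom (Sec (Coh.toGlobal (A := R') f') ((Scheme.Modules.pullback g).obj F) (g ⁻¹ᵁ W)) φ.hom
    IsLocalizedModule R⁰ (secPull f f' g φ W F hc.w (le_rfl : g ⁻¹ᵁ W ≤ g ⁻¹ᵁ W)) := by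
  letI := φ.hom.toAlgebra
  letI := Module.compHom (Sec (Coh.toGlobal (A := R') f') ((Scheme.Modules.pullback g).obj F)
    (g ⁻¹ᵁ W)) φ.hom
  haveI : IsScalarTower R R' (Sec (Coh.toGlobal (A := R') f') ((Scheme.Modules.pullback g).obj F)
    (g ⁻¹ᵁ W)) := .of_algebraMap_smul fun _ _ => rfl
  haveI := hφ
  exact (isLocalizedModule_iff_isBaseChange R⁰ R' _).2 (isBaseChange_secPull hc F hW rfl)

include hc hφ in
theorem exists_clear {F : X.Modules} [Coh.IsQCoh F] {W : X.Opens} (hW : IsAffineOpen W)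
    (y : Γ((Scheme.Modules.pullback g).obj F, g ⁻¹ᵁ W)) :
    ∃ a : R, a ≠ 0 ∧ ∃ m : Γ(F, W),
      pullMap g F le_rfl m = (secHom f' (g ⁻¹ᵁ W)).hom (φ.hom a) • y := by
  letI := Module.compHom (Sec (Coh.toGlobal (A := R') f') ((Scheme.Modules.pullback g).obj F)
    (g ⁻¹ᵁ W)) φ.hom
  haveI := isLocalized_pullMap hc hφ (F := F) hW
  obtain ⟨⟨m, s⟩, hs⟩ := IsLocalizedModule.surj R⁰ (secPull f f' g φ W F hc.w
    (le_rfl : g ⁻¹ᵁ W ≤ g ⁻¹ᵁ W)) y
  exact ⟨s.1, nonZeroDivisors.ne_zero s.2, m, hs.symm⟩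

include hc hφ in
theorem injective_pullMap {F : X.Modules} [Coh.IsQCoh F] (hF : FlatMod.IsFlatOver f F) {W : X.Opens}
    (hW : IsAffineOpen W) : Function.Injective (pullMap g F (le_rfl : g ⁻¹ᵁ W ≤ g ⁻¹ᵁ W)) := by
  letI := Module.compHom (Sec (Coh.toGlobal (A := R') f') ((Scheme.Modules.pullback g).obj F)
    (g ⁻¹ᵁ W)) φ.hom
  haveI := isLocalized_pullMap hc hφ (F := F) hW
  intro m m' h
  obtain ⟨s, hs⟩ := IsLocalizedModule.exists_of_eq (S := R⁰)
    (f := secPull f f' g φ W F hc.w (le_rfl : g ⁻¹ᵁ W ≤ g ⁻¹ᵁ W)) h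
  exact injective_smul hF hW (nonZeroDivisors.ne_zero s.2) hs

include hc hφ in
theorem mono_unit {F : X.Modules} [Coh.IsQCoh F] (hF : FlatMod.IsFlatOver f F) :
    Mono ((Scheme.Modules.pullbackPushforwardAdjunction g).unit.app F) :=
  mono_of_affine _ fun W hW a b h => injective_pullMap hc hφ hF hW
    (congrArg (((Scheme.Modules.pullback g).obj F).presheaf.map (homOfLE (le_refl (g ⁻¹ᵁ W))).op) h)

include hc hφ in
/-- A morphism of generic fibres extends after multiplication by a nonzero scalar. -/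
theorem exists_extension [CompactSpace X] [IsLocallyNoetherian X] {I F : X.Modules} (hI : Coh.IsCoh I)
    [Coh.IsQCoh F] (hF : FlatMod.IsFlatOver f F)
    (ψ : (Scheme.Modules.pullback g).obj I ⟶ (Scheme.Modules.pullback g).obj F) :
    ∃ a : R, a ≠ 0 ∧ ∃ θ : I ⟶ F,
      (Scheme.Modules.pullback g).map θ = (Scheme.Modules.pullback g).map (sm f I a) ≫ ψ := by
  classical
  haveI := hI.1
  let adj := Scheme.Modules.pullbackPushforwardAdjunction g
  let η := adj.unit.app F
  haveI : Mono η := mono_unit hc hφ hF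
  let G := adj.homEquiv _ _ ψ
  obtain ⟨t, ht⟩ := isCompact_univ.elim_finite_subcover (fun V : X.affineOpens => ((V : X.Opens) : Set X))
    (fun V => V.1.2) (fun x _ => by
      obtain ⟨_, ⟨W, hW, rfl⟩, hxW, -⟩ := X.isBasis_affineOpens.exists_subset_of_mem_open
        (Set.mem_univ x) isOpen_univ
      exact Set.mem_iUnion.2 ⟨⟨W, hW⟩, hxW⟩)
  haveI : ∀ V : X.affineOpens, Module.Finite Γ(X, V) Γ(I, (V : X.Opens)) := fun V =>
    QCohLib.finite_sections_of_isCoh hI V.2
  choose s hs using fun V : X.affineOpens =>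
    (Module.finite_def.1 (inferInstance : Module.Finite Γ(X, V) Γ(I, (V : X.Opens))))
  choose a ha m hm using fun (V : X.affineOpens) (z : Γ(I, (V : X.Opens))) =>
    exists_clear hc hφ V.2 (F := F) (show Γ((Scheme.Modules.pullback g).obj F, g ⁻¹ᵁ V) from G.app V z)
  let A := ∏ V ∈ t, ∏ z ∈ s V, a V z
  have hA : A ≠ 0 := Finset.prod_ne_zero_iff.2 fun V _ => Finset.prod_ne_zero_iff.2 fun z _ => ha V z
  have hzero : (sm f I A ≫ G) ≫ cokernel.π η = 0 := by
    refine eq_zero_of_generators _ (fun V : t => (V.1 : X.Opens)) (fun V => V.1.2) (fun x => ?_)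
      fun V z => ?_
    · obtain ⟨V, hV, hx⟩ := Set.mem_iUnion₂.1 (ht (Set.mem_univ x))
      exact ⟨⟨V, hV⟩, hx⟩
    have hz : z ∈ Submodule.span Γ(X, (V.1 : X.Opens)) ((s V.1 : Finset _) : Set _) :=
      hs V.1 ▸ trivial
    induction hz using Submodule.span_induction with
    | zero => exact map_zero _
    | add x y _ _ hx hy => rw [map_add, hx, hy, add_zero]
    | smul c x _ hx => rw [Scheme.Modules.Hom.app_smul, hx, smul_zero]
    | mem z hz =>
      obtain ⟨c, hc'⟩ : a V.1 z ∣ A := (Finset.dvd_prod_of_mem _ hz).trans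
        (Finset.dvd_prod_of_mem (fun V => ∏ z ∈ s V, a V z) V.2)
      show (cokernel.π η).app (V.1 : X.Opens) (G.app (V.1 : X.Opens) ((secHom f V.1).hom A • z)) = 0
      have hcomm : g.app (V.1 : X.Opens) ((secHom f V.1).hom A) =
          (secHom f' (g ⁻¹ᵁ V.1)).hom (φ.hom A) := by
        rw [Scheme.Hom.app_eq_appLE]
        exact congr($(secHom_comm hc.w (le_rfl : g ⁻¹ᵁ (V.1 : X.Opens) ≤ g ⁻¹ᵁ V.1)).hom A)
      let y : Γ((Scheme.Modules.pullback g).obj F, g ⁻¹ᵁ V.1) := G.app (V.1 : X.Opens) z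
      have hval : G.app (V.1 : X.Opens) ((secHom f V.1).hom A • z) =
          η.app (V.1 : X.Opens) ((secHom f V.1).hom c • m V.1 z) := by
        rw [Scheme.Modules.Hom.app_smul]
        show g.app (V.1 : X.Opens) ((secHom f V.1).hom A) • y = _
        rw [hcomm]
        have h2 := pullMap_smul g F (le_rfl : g ⁻¹ᵁ (V.1 : X.Opens) ≤ g ⁻¹ᵁ V.1) ((secHom f V.1).hom c)
          (m V.1 z)
        rw [hm] at h2
        refine Eq.trans ?_ (restr_self _ le_rfl _)
        refine Eq.trans ?_ h2.symm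
        have hcc : g.appLE (V.1 : X.Opens) (g ⁻¹ᵁ V.1) le_rfl ((secHom f V.1).hom c) =
            (secHom f' (g ⁻¹ᵁ V.1)).hom (φ.hom c) :=
          congr($(secHom_comm hc.w (le_rfl : g ⁻¹ᵁ (V.1 : X.Opens) ≤ g ⁻¹ᵁ V.1)).hom c)
        rw [hcc, hc', map_mul, map_mul, mul_comm, mul_smul]
      rw [hval]
      exact congr($(congrArg (fun q : F ⟶ cokernel η => q.app (V.1 : X.Opens)) (cokernel.condition η))
        ((secHom f V.1).hom c • m V.1 z))
  let θ := Abelian.monoLift η (sm f I A ≫ G) hzero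
  refine ⟨A, hA, θ, (adj.homEquiv _ _).injective ?_⟩
  rw [adj.homEquiv_naturality_left]
  refine Eq.trans ?_ (Abelian.monoLift_comp η (sm f I A ≫ G) hzero)
  rw [Adjunction.homEquiv_unit]
  exact (adj.unit.naturality θ).symm

end Generic

section Special

variable (hc : IsPullback g f' f (Spec.map φ)) (hφ : Function.Surjective φ.hom)
  {p : R} (hker : RingHom.ker φ.hom = Ideal.span {p})

include hc hφ hker in
theorem exists_eq_smul {F : X.Modules} [Coh.IsQCoh F] {W : X.Opens} (hW : IsAffineOpen W)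
    (m : Γ(F, W)) (h : pullMap g F (le_rfl : g ⁻¹ᵁ W ≤ g ⁻¹ᵁ W) m = 0) :
    ∃ m' : Γ(F, W), m = (secHom f W).hom p • m' := by
  letI := φ.hom.toAlgebra
  letI := Module.compHom (Sec (Coh.toGlobal (A := R') f') ((Scheme.Modules.pullback g).obj F)
    (g ⁻¹ᵁ W)) φ.hom
  haveI : IsScalarTower R R' (Sec (Coh.toGlobal (A := R') f') ((Scheme.Modules.pullback g).obj F)
    (g ⁻¹ᵁ W)) := .of_algebraMap_smul fun _ _ => rfl
  let M := Sec (Coh.toGlobal (A := R) f) F W
  let N : Submodule R M := Ideal.span {p} • ⊤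
  have hb := isBaseChange_secPull hc F hW (W' := g ⁻¹ᵁ W) rfl
  have h0 : (1 : R') ⊗ₜ[R] (show M from m) = 0 := by
    apply hb.equiv.injective
    rw [IsBaseChange.equiv_tmul, one_smul, map_zero]
    exact h
  have htor : ∀ (x : M ⧸ N) (b : R), b ∈ RingHom.ker φ.hom → b • x = 0 := fun x b hb' => by
    obtain ⟨y, rfl⟩ := Submodule.mkQ_surjective N x
    rw [← map_smul]
    exact (Submodule.Quotient.mk_eq_zero N).2 (Submodule.smul_mem_smul (hker ▸ hb') trivial)
  have hmem : (show M from m) ∈ N := by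
    have hσ : ∀ r' : R', φ.hom (Function.surjInv hφ r') = r' := Function.surjInv_eq hφ
    have hwd : ∀ a b : R, φ.hom a = φ.hom b → ∀ x : M ⧸ N, a • x = b • x := fun a b hab x => by
      have hk : a - b ∈ RingHom.ker φ.hom := by rw [RingHom.mem_ker, map_sub, hab, sub_self]
      have := htor x (a - b) hk
      rwa [sub_smul, sub_eq_zero] at this
    let B : R' →ₗ[R] M →ₗ[R] M ⧸ N := LinearMap.mk₂ R (fun r' x => Function.surjInv hφ r' • N.mkQ x)
      (fun a b x => by rw [← add_smul]; exact hwd _ _ (by rw [map_add, hσ, hσ, hσ]) _)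
      (fun c a x => by
        rw [smul_smul]
        refine hwd _ _ ?_ _
        rw [map_mul, hσ, hσ]
        rfl)
      (fun a x y => by rw [map_add, smul_add])
      (fun c a x => by rw [map_smul, smul_comm])
    have h1 := congrArg (TensorProduct.lift B) h0
    rw [TensorProduct.lift.tmul, map_zero] at h1
    refine (Submodule.Quotient.mk_eq_zero N).1 ?_
    refine Eq.trans ?_ h1
    show N.mkQ _ = Function.surjInv hφ (1 : R') • N.mkQ _
    rw [hwd _ 1 (by rw [hσ, map_one]), one_smul]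
  let P : M → Prop := fun x => ∃ y : M, x = p • y
  have hP : P (show M from m) := by
    refine Submodule.smul_induction_on hmem (fun b hb x _ => ?_) (fun x y hx hy => ?_)
    · obtain ⟨c, rfl⟩ := Ideal.mem_span_singleton'.1 hb
      exact ⟨c • x, by rw [mul_comm, mul_smul]⟩
    · obtain ⟨x', rfl⟩ := hx
      obtain ⟨y', rfl⟩ := hy
      exact ⟨x' + y', (smul_add _ _ _).symm⟩
  exact hP

end Special

end Groth.Agent.HomDvrLib
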