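import Groth.Agent.HomDvrLib.Basic
import Groth.Agent.HomLib.Basic
import Groth.Agent.AlterN1.Basic
import Groth.Agent.ASBunKS.HomFinite
import Groth.Prelude.Def_KLin

/-!
# The module of morphisms of flat coherent modules over a domain
-/

set_option autoImplicit false
set_option backward.isDefEq.respectTransparency false
set_option linter.style.haveILetI false

universe u

open CategoryTheory CategoryTheory.Limits AlgebraicGeometry TopologicalSpace Opposite
open Groth.Agent.CohBase Groth.Agent.PullbackMod Groth.Agent.BCLib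
open scoped nonZeroDivisors

noncomputable section

namespace Groth.Agent.HomDvrLib

variable (R : Type u) [CommRing R] {X : Scheme.{u}} [X.Over (Spec (CommRingCat.of R))]

theorem smul_eq {M N : X.Modules} (a : R) (ψ : M ⟶ N) :
    a • ψ = sm (R := CommRingCat.of R) (X ↘ Spec (CommRingCat.of R)) M a ≫ ψ := rfl

theorem smul_eq' {M N : X.Modules} (a : R) (ψ : M ⟶ N) :
    a • ψ = ψ ≫ sm (R := CommRingCat.of R) (X ↘ Spec (CommRingCat.of R)) N a := by
  rw [smul_eq]
  exact (KLin.comp_smulModΓ ψ _).symm

/-- Morphisms of coherent modules on a proper scheme form a finite module. -/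
theorem finite_hom [IsNoetherianRing R] [IsProper (X ↘ Spec (CommRingCat.of R))] {I F : X.Modules}
    (hI : Coh.IsCoh I) (hF : Coh.IsCoh F) : Module.Finite R (I ⟶ F) := by
  haveI : IsLocallyNoetherian X := LocallyOfFiniteType.isLocallyNoetherian (X ↘ Spec (CommRingCat.of R))
  let H := RefHull.homSh I F
  haveI := Groth.Agent.S0002.result R X H (HomLib.isCoh_homSh hI hF) 0
  let tg : R →+* Γ(X, ⊤) := Coh.toGlobal (X ↘ Spec (CommRingCat.of R))
  letI : Module R Γ(H, ⊤) := Module.compHom _ tg
  let e : Coh.HH X H 0 →ₗ[R] Γ(H, ⊤) :=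
    { (CurveLib.secOf H).toAddMonoidHom with
      map_smul' := fun r c => by
        change H0Equiv (⊤ : X.Opens) (Coh.toAb H)
          (HEquiv _ 0 (Sheaf.H.map (Coh.smulAb H _) 0 c)) = _
        rw [HEquiv_map, H0Equiv_hmap, Coh.smulAb_app]
        exact congrArg (fun a : Γ(X, ⊤) => a • CurveLib.secOf H c)
          (ConcreteCategory.congr_hom (X.presheaf.map_id _) _) }
  haveI : Module.Finite R Γ(H, ⊤) := Module.Finite.of_surjective e (CurveLib.secOf H).surjective
  let Φ : Γ(H, ⊤) →ₗ[R] (I ⟶ F) :=
    { toFun := HomLib.toHom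
      map_add' := ASBunKS.toHom_add
      map_smul' := fun c s => by
        refine Scheme.Modules.hom_ext _ _ fun U => AddCommGrpCat.hom_ext (AddMonoidHom.ext fun m => ?_)
        show HomLib.ev (tg c • s) le_top m =
          HomLib.ev s le_top (X.presheaf.map (homOfLE (le_top : U ≤ ⊤)).op (tg c) • m)
        rw [map_smul]
        refine HomLib.ext_germ _ _ fun x hx => ?_
        rw [HomLib.germ_ev, HomLib.germ_smul', HomLib.germ_ev, TopCat.Presheaf.germ_res_apply]
        rfl }
  exact Module.Finite.of_surjective Φ fun ψ => ⟨RefHull.ofHom ψ ⊤, HomLib.toHom_ofHom ψ⟩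

variable [IsDomain R]

theorem isTorsionFree_hom {I F : X.Modules} [Coh.IsQCoh F]
    (hF : FlatMod.IsFlatOver (X ↘ Spec (CommRingCat.of R)) F) : Module.IsTorsionFree R (I ⟶ F) := by
  refine ⟨fun a ha ψ ψ' h => ?_⟩
  haveI : IsDomain (CommRingCat.of R : CommRingCat.{u}) := ‹IsDomain R›
  haveI := mono_sm (R := CommRingCat.of R) (f := X ↘ Spec (CommRingCat.of R)) hF
    (a := a) ha.ne_zero
  have h' : a • ψ = a • ψ' := h
  rw [smul_eq', smul_eq'] at h'
  exact (cancel_mono _).1 h'

section Generic

variable {X' : Scheme.{u}} {K : Type u} [Field K] [X'.Over (Spec (CommRingCat.of K))] [Algebra R K]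
  [IsFractionRing R K] (g : X' ⟶ X)
  (hc : IsPullback g (X' ↘ Spec (CommRingCat.of K)) (X ↘ Spec (CommRingCat.of R))
    (Spec.map (CommRingCat.ofHom (algebraMap R K))))

include hc in
theorem map_eq_zero_iff_generic {I F : X.Modules} [Coh.IsQCoh F]
    (hF : FlatMod.IsFlatOver (X ↘ Spec (CommRingCat.of R)) F) (ψ : I ⟶ F) :
    (Scheme.Modules.pullback g).map ψ = 0 ↔ ψ = 0 := by
  haveI : IsDomain (CommRingCat.of R : CommRingCat.{u}) := ‹IsDomain R›
  have hloc : @IsLocalization (CommRingCat.of R : CommRingCat.{u}) _ (CommRingCat.of R : CommRingCat.{u})⁰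
      (CommRingCat.of K : CommRingCat.{u}) _
      (CommRingCat.ofHom (algebraMap R K)).hom.toAlgebra := by
    convert (inferInstance : IsFractionRing R K)
    exact Algebra.algebra_ext _ _ fun _ => rfl
  haveI : (Scheme.Modules.pullback g).Additive :=
    (Scheme.Modules.pullbackPushforwardAdjunction g).left_adjoint_additive
  refine ⟨fun h => ?_, fun h => by rw [h]; exact Functor.map_zero _ _ _⟩
  haveI := mono_unit hc hloc hF
  refine zero_of_comp_mono ((Scheme.Modules.pullbackPushforwardAdjunction g).unit.app F) ?_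
  refine ((Scheme.Modules.pullbackPushforwardAdjunction g).unit.naturality ψ).trans ?_
  show _ ≫ (Scheme.Modules.pushforward g).map ((Scheme.Modules.pullback g).map ψ) = 0
  rw [h, Functor.map_zero, comp_zero]

include hc in
/-- The rank of the module of morphisms is the dimension of the morphisms on the generic fibre. -/
theorem finrank_hom [IsNoetherianRing R] [IsProper (X ↘ Spec (CommRingCat.of R))] {I F : X.Modules}
    (hI : Coh.IsCoh I) (hFc : Coh.IsCoh F) (hF : FlatMod.IsFlatOver (X ↘ Spec (CommRingCat.of R)) F)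
    [Module.Free R (I ⟶ F)] :
    Module.finrank R (I ⟶ F) =
      Module.finrank K ((Scheme.Modules.pullback g).obj I ⟶ (Scheme.Modules.pullback g).obj F) := by
  haveI := hFc.1
  haveI : IsDomain (CommRingCat.of R : CommRingCat.{u}) := ‹IsDomain R›
  haveI : IsLocallyNoetherian X := LocallyOfFiniteType.isLocallyNoetherian (X ↘ Spec (CommRingCat.of R))
  haveI : CompactSpace X := QuasiCompact.compactSpace_of_compactSpace (X ↘ Spec (CommRingCat.of R))
  have hloc : @IsLocalization (CommRingCat.of R : CommRingCat.{u}) _ (CommRingCat.of R : CommRingCat.{u})⁰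
      (CommRingCat.of K : CommRingCat.{u}) _
      (CommRingCat.ofHom (algebraMap R K)).hom.toAlgebra := by
    convert (inferInstance : IsFractionRing R K)
    exact Algebra.algebra_ext _ _ fun _ => rfl
  haveI := finite_hom R hI hFc
  haveI : (Scheme.Modules.pullback g).Additive :=
    (Scheme.Modules.pullbackPushforwardAdjunction g).left_adjoint_additive
  let I' := (Scheme.Modules.pullback g).obj I
  let F' := (Scheme.Modules.pullback g).obj F
  letI : Module R (I' ⟶ F') := Module.compHom _ (algebraMap R K)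
  haveI : IsScalarTower R K (I' ⟶ F') := .of_algebraMap_smul fun _ _ => rfl
  have hmap : ∀ (a : R) (ψ : I ⟶ F), (Scheme.Modules.pullback g).map (a • ψ) =
      algebraMap R K a • (Scheme.Modules.pullback g).map ψ := fun a ψ => by
    rw [smul_eq, smul_eq, Functor.map_comp,
      map_sm (f' := X' ↘ Spec (CommRingCat.of K)) (φ := CommRingCat.ofHom (algebraMap R K)) hc.w I a]
    rfl
  let θ : (I ⟶ F) →ₗ[R] (I' ⟶ F') :=
    { toFun := (Scheme.Modules.pullback g).map
      map_add' := fun _ _ => Functor.map_add _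
      map_smul' := fun a ψ => hmap a ψ }
  have hθ : LinearMap.ker θ = ⊥ := LinearMap.ker_eq_bot'.2 fun ψ h =>
    (map_eq_zero_iff_generic R g hc hF ψ).1 h
  let b := Module.Free.chooseBasis R (I ⟶ F)
  have hli : LinearIndependent K (θ ∘ b) :=
    LinearIndependent.localization (Rₛ := K) (S := R⁰) (b.linearIndependent.map' θ hθ)
  have hsp : ⊤ ≤ Submodule.span K (Set.range (θ ∘ b)) := fun ψ _ => by
    obtain ⟨a, ha, χ, hχ⟩ := exists_extension hc hloc hI hF ψ
    have h2 : θ χ = algebraMap R K a • ψ := by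
      show (Scheme.Modules.pullback g).map χ = _
      rw [hχ, map_sm (f' := X' ↘ Spec (CommRingCat.of K)) (φ := CommRingCat.ofHom (algebraMap R K)) hc.w I a]
      rfl
    have hmem : θ χ ∈ Submodule.span K (Set.range (θ ∘ b)) := by
      rw [Set.range_comp]
      refine Submodule.span_le_restrictScalars R K _ ?_
      rw [Submodule.span_image]
      exact ⟨χ, b.span_eq.ge trivial, rfl⟩
    rw [h2] at hmem
    have h0 : algebraMap R K a ≠ 0 := fun h0 =>
      ha (IsFractionRing.injective R K (h0.trans (map_zero _).symm))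
    have h3 := Submodule.smul_mem _ (algebraMap R K a)⁻¹ hmem
    rwa [← mul_smul, inv_mul_cancel₀ h0, one_smul] at h3
  rw [Module.finrank_eq_card_basis b, Module.finrank_eq_card_basis (Module.Basis.mk hli hsp)]

end Generic

section Special

variable {X' : Scheme.{u}} {K : Type u} [CommRing K] (f' : X' ⟶ Spec (CommRingCat.of K)) [Algebra R K]
  (g : X' ⟶ X)
  (hc : IsPullback g f' (X ↘ Spec (CommRingCat.of R)) (Spec.map (CommRingCat.ofHom (algebraMap R K))))

include hc in
/-- A morphism vanishing on a closed fibre is divisible by the equation of the fibre. -/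
theorem exists_smul_eq_of_map_eq_zero (hsurj : Function.Surjective (algebraMap R K)) {p : R} (hp : p ≠ 0)
    (hker : RingHom.ker (algebraMap R K) = Ideal.span {p}) {I F : X.Modules} [Coh.IsQCoh I] [Coh.IsQCoh F]
    (hF : FlatMod.IsFlatOver (X ↘ Spec (CommRingCat.of R)) F) {ψ : I ⟶ F}
    (h : (Scheme.Modules.pullback g).map ψ = 0) : ∃ χ : I ⟶ F, ψ = p • χ := by
  haveI : IsDomain (CommRingCat.of R : CommRingCat.{u}) := ‹IsDomain R›
  let μ := sm (R := CommRingCat.of R) (X ↘ Spec (CommRingCat.of R)) F p
  haveI : Mono μ := mono_sm hF hp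
  have hη : ψ ≫ (Scheme.Modules.pullbackPushforwardAdjunction g).unit.app F = 0 := by
    refine ((Scheme.Modules.pullbackPushforwardAdjunction g).unit.naturality ψ).trans ?_
    show _ ≫ (Scheme.Modules.pushforward g).map ((Scheme.Modules.pullback g).map ψ) = 0
    rw [h, Functor.map_zero, comp_zero]
  have hzero : ψ ≫ cokernel.π μ = 0 := by
    refine eq_zero_of_generators _ (fun V : X.affineOpens => (V : X.Opens)) (fun V => V.2) (fun x => ?_)
      fun V m => ?_
    · obtain ⟨_, ⟨W, hW, rfl⟩, hxW, -⟩ := X.isBasis_affineOpens.exists_subset_of_mem_open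
        (Set.mem_univ x) isOpen_univ
      exact ⟨⟨W, hW⟩, hxW⟩
    let G := (Scheme.Modules.pullback g).obj F
    let w : Γ(G, g ⁻¹ᵁ (V : X.Opens)) :=
      ((Scheme.Modules.pullbackPushforwardAdjunction g).unit.app F).app (V : X.Opens) (ψ.app (V : X.Opens) m)
    have hw : w = 0 := congr($(congrArg (fun q : I ⟶ _ => q.app (V : X.Opens)) hη) m)
    have h0 : pullMap g F (le_rfl : g ⁻¹ᵁ (V : X.Opens) ≤ g ⁻¹ᵁ V) (ψ.app (V : X.Opens) m) = 0 := by
      show G.presheaf.map (homOfLE (le_refl (g ⁻¹ᵁ (V : X.Opens)))).op w = 0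
      rw [hw]
      exact map_zero _
    obtain ⟨m', hm'⟩ := exists_eq_smul hc hsurj hker V.2 _ h0
    show (cokernel.π μ).app (V : X.Opens) (ψ.app (V : X.Opens) m) = 0
    rw [hm']
    exact congr($(congrArg (fun q : F ⟶ cokernel μ => q.app (V : X.Opens)) (cokernel.condition μ)) m')
  refine ⟨Abelian.monoLift μ ψ hzero, ?_⟩
  rw [smul_eq']
  exact (Abelian.monoLift_comp μ ψ hzero).symm

end Special

end Groth.Agent.HomDvrLib
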